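import Groth.Agent.H54.FlatFP
import Groth.Agent.Lib.FlatCx.Ker
import Mathlib.RingTheory.TensorProduct.MvPolynomial

/-!
# Syzygies of flat finitely presented modules are finitely presented

`S` finitely presented over `R`, `M` a finitely presented `S`-module flat over `R`: the kernel of
a surjection `S ^ n → M` is a finitely presented `S`-module when `S` is flat over `R`.
-/

set_option linter.style.haveILetI false

universe u

open TensorProduct Groth.Agent.Lib.Flat55.Relations Groth.Agent.H19.FlatLocus

namespace Groth.Agent.Lib.FlatFPSyzygy.Basic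

theorem lTensor_subtype_injective (A₀ : Type u) [CommRing A₀] (R : Type u) [AddCommGroup R] [Module A₀ R]
    {P₀ : Type u} [CommRing P₀] [Algebra A₀ P₀] {F : Type u} [AddCommGroup F] [Module P₀ F]
    [Module A₀ F] [IsScalarTower A₀ P₀ F] [Module.Flat A₀ F] (W : Submodule P₀ F)
    [Module.Flat A₀ (F ⧸ W)] :
    Function.Injective ((W.subtype.restrictScalars A₀).lTensor R) := by
  let q₀ : F →ₗ[A₀] F ⧸ W := W.mkQ.restrictScalars A₀
  haveI : Subsingleton ((F ⧸ W) ⧸ LinearMap.range q₀) :=
    Submodule.Quotient.subsingleton_iff.2 (LinearMap.range_eq_top.2 W.mkQ_surjective)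
  have h := (Lib.FlatCx.Ker.ker_lTensor_of_flat_coker q₀ R).1
  let e : ↥W ≃ₗ[A₀] ↥(LinearMap.ker q₀) :=
    { toFun := fun x => ⟨x.1, show W.mkQ x.1 = 0 from (Submodule.Quotient.mk_eq_zero _).2 x.2⟩
      invFun := fun x => ⟨x.1, (Submodule.Quotient.mk_eq_zero _).1 x.2⟩
      map_add' := fun _ _ => rfl
      map_smul' := fun _ _ => rfl }
  rw [show W.subtype.restrictScalars A₀ = (LinearMap.ker q₀).subtype.comp e.toLinearMap from rfl,
    LinearMap.lTensor_comp]
  exact h.comp (e.lTensor R).injective

theorem baseChange_subtype_injective (A₀ R P₀ P : Type u) [CommRing A₀] [CommRing R] [CommRing P₀]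
    [CommRing P] [Algebra A₀ R] [Algebra A₀ P₀] [Algebra A₀ P] [Algebra R P] [Algebra P₀ P]
    [IsScalarTower A₀ R P] [IsScalarTower A₀ P₀ P] [Algebra.IsPushout A₀ R P₀ P]
    {F : Type u} [AddCommGroup F] [Module P₀ F] [Module A₀ F] [IsScalarTower A₀ P₀ F]
    [Module.Flat A₀ F] (W : Submodule P₀ F) [Module.Flat A₀ (F ⧸ W)] :
    Function.Injective (W.subtype.baseChange P) := by
  let eK := Algebra.IsPushout.cancelBaseChangeAux A₀ R P₀ P ↥W
  let eF := Algebra.IsPushout.cancelBaseChangeAux A₀ R P₀ P F
  have hnat : ∀ z, W.subtype.baseChange P (eK.symm z) =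
      eF.symm ((W.subtype.restrictScalars A₀).lTensor R z) := by
    intro z
    induction z using TensorProduct.induction_on with
    | zero => simp
    | tmul r x =>
      simp only [eK, eF, Algebra.IsPushout.cancelBaseChangeAux_symm_tmul, LinearMap.baseChange_tmul,
        LinearMap.lTensor_tmul, LinearMap.restrictScalars_apply]
    | add a b ha hb => simp only [map_add, ha, hb]
  intro a b hab
  have h1 := hnat (eK a)
  have h2 := hnat (eK b)
  rw [eK.symm_apply_apply] at h1 h2
  rw [h1, h2] at hab
  exact eK.injective (lTensor_subtype_injective A₀ R W (eF.symm.injective hab))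

/-- The relations of an `R`-flat presented module are finitely presented. -/
theorem rel_finitePresentation {σ : Type} [Finite σ] {ι κ : Type} [Finite ι] [Finite κ]
    {R : Type u} [CommRing R] (g : κ → ι → MvPolynomial σ R) [Module.Flat R (Quot g)] :
    Module.FinitePresentation (MvPolynomial σ R) ↥(rel g) := by
  classical
  cases nonempty_fintype κ
  cases nonempty_fintype ι
  obtain ⟨s, g₁, hg₁, hflat⟩ := exists_flat_level g fun q => H54.FlatFP.flat_quotAt g q.asIdeal
  let A₀ := Algebra.adjoin ℤ (s : Set R)
  haveI : Algebra.FiniteType ℤ A₀ := (Subalgebra.fg_iff_finiteType A₀).mp ⟨s, rfl⟩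
  haveI : IsNoetherianRing A₀ := Algebra.FiniteType.isNoetherianRing ℤ A₀
  let P₀ := MvPolynomial σ A₀
  let P := MvPolynomial σ R
  haveI hM : Module.Flat A₀ (Quot g₁) :=
    Module.flat_of_isLocalized_maximal P₀ (Quot g₁)
      (fun Q => QuotAt g₁ Q) (fun Q _ => LocalizedModule.mkLinearMap _ _) fun Q _ => hflat Q
  let _ : Algebra P₀ P := MvPolynomial.algebraMvPolynomial
  haveI : Module.FinitePresentation P₀ ↥(rel g₁) := Module.finitePresentation_of_finite _ _
  have hinj : Function.Injective ((rel g₁).subtype.baseChange P) :=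
    baseChange_subtype_injective A₀ R P₀ P (rel g₁)
  let Φ : P ⊗[P₀] ↥(rel g₁) →ₗ[P] (ι → P) :=
    (TensorProduct.piScalarRight P₀ P P ι).toLinearMap ∘ₗ (rel g₁).subtype.baseChange P
  have hΦ : Function.Injective Φ := (TensorProduct.piScalarRight P₀ P P ι).injective.comp hinj
  have hΦapp : ∀ (x : P) (y : ↥(rel g₁)), Φ (x ⊗ₜ y) = x • mapVec A₀.val.toRingHom y.1 := by
    intro x y
    funext i
    simp only [Φ, LinearMap.comp_apply, LinearMap.baseChange_tmul, Submodule.subtype_apply,
      LinearEquiv.coe_coe, TensorProduct.piScalarRight_apply, TensorProduct.piScalarRightHom_tmul,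
      Pi.smul_apply, mapVec_apply, smul_eq_mul, Algebra.smul_def]
    exact mul_comm _ _
  have hrange : LinearMap.range Φ = rel g := by
    refine le_antisymm ?_ (Submodule.span_le.2 ?_)
    · rintro _ ⟨z, rfl⟩
      induction z using TensorProduct.induction_on with
      | zero => simp
      | tmul x y =>
        rw [hΦapp]
        refine Submodule.smul_mem _ x ?_
        obtain ⟨y, hy⟩ := y
        induction hy using Submodule.span_induction with
        | mem w hw =>
          obtain ⟨v, rfl⟩ := hw
          exact Submodule.subset_span ⟨v, (hg₁ v).symm⟩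
        | zero => rw [map_zero]; exact zero_mem _
        | add a b _ _ ha hb => rw [map_add]; exact add_mem ha hb
        | smul c a _ ha => rw [mapVec_smul]; exact Submodule.smul_mem _ _ ha
      | add a b ha hb => rw [map_add]; exact add_mem ha hb
    · rintro _ ⟨v, rfl⟩
      refine ⟨1 ⊗ₜ ⟨g₁ v, Submodule.subset_span ⟨v, rfl⟩⟩, ?_⟩
      rw [hΦapp, one_smul]
      exact hg₁ v
  haveI : Module.FinitePresentation P (P ⊗[P₀] ↥(rel g₁)) := inferInstance
  exact Module.FinitePresentation.of_equiv ((LinearEquiv.ofInjective Φ hΦ).trans (LinearEquiv.ofEq _ _ hrange))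

/-- Kernels of surjections between finitely presented `R`-flat modules over a polynomial ring. -/
theorem ker_finitePresentation_poly {σ : Type} [Finite σ] {R : Type u} [CommRing R]
    {F N : Type u} [AddCommGroup F] [Module (MvPolynomial σ R) F]
    [Module.FinitePresentation (MvPolynomial σ R) F] [AddCommGroup N] [Module (MvPolynomial σ R) N]
    [Module R N] [IsScalarTower R (MvPolynomial σ R) N] [Module.FinitePresentation (MvPolynomial σ R) N]
    [Module.Flat R N] (f : F →ₗ[MvPolynomial σ R] N) (hf : Function.Surjective f) :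
    Module.FinitePresentation (MvPolynomial σ R) ↥(LinearMap.ker f) := by
  obtain ⟨m, p, hp⟩ := Module.Finite.exists_fin' (MvPolynomial σ R) F
  obtain ⟨k, g, hg⟩ := Submodule.fg_iff_exists_fin_generating_family.1
    (Module.FinitePresentation.fg_ker (f ∘ₗ p) (hf.comp hp))
  have hrel : rel g = LinearMap.ker (f ∘ₗ p) := hg
  let eN : Quot g ≃ₗ[MvPolynomial σ R] N :=
    (Submodule.quotEquivOfEq _ _ hrel).trans ((f ∘ₗ p).quotKerEquivOfSurjective (hf.comp hp))
  haveI : Module.Flat R (Quot g) := Module.Flat.of_linearEquiv (eN.restrictScalars R)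
  haveI := rel_finitePresentation g
  let q : ↥(rel g) →ₗ[MvPolynomial σ R] ↥(LinearMap.ker f) :=
    (p ∘ₗ (rel g).subtype).codRestrict _ fun x => (hrel.le x.2 :)
  refine Module.finitePresentation_of_surjective q (fun y => ?_) ?_
  · obtain ⟨x, hx⟩ := hp y.1
    exact ⟨⟨x, hrel ▸ (LinearMap.mem_ker.2 (by rw [LinearMap.comp_apply, hx]; exact y.2))⟩, Subtype.ext hx⟩
  · have hker : (LinearMap.ker q).map (rel g).subtype = LinearMap.ker p := by
      refine le_antisymm ?_ fun x hx => ?_
      · rintro _ ⟨x, hx, rfl⟩
        exact congrArg Subtype.val (LinearMap.mem_ker.1 hx)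
      · refine ⟨⟨x, hrel ▸ (LinearMap.mem_ker.2 (by rw [LinearMap.comp_apply, LinearMap.mem_ker.1 hx, map_zero]))⟩,
          LinearMap.mem_ker.2 (Subtype.ext (LinearMap.mem_ker.1 hx)), rfl⟩
    exact Submodule.fg_of_fg_map_injective _ (rel g).injective_subtype
      (hker ▸ Module.FinitePresentation.fg_ker p hp)

variable {R S : Type u} [CommRing R] [CommRing S] [Algebra R S]

theorem finitePresentation_of_restrict {P : Type u} [CommRing P] [Algebra P S]
    (hP : Function.Surjective (algebraMap P S)) (K : Type u) [AddCommGroup K] [Module S K] [Module P K]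
    [IsScalarTower P S K] [Module.FinitePresentation P K] : Module.FinitePresentation S K := by
  classical
  haveI : Module.Finite S K := Module.Finite.of_restrictScalars_finite P _ _
  obtain ⟨n, f, hf⟩ := Module.Finite.exists_fin' S K
  let c : (Fin n → P) →ₗ[P] (Fin n → S) := (Algebra.linearMap P S).compLeft (Fin n)
  have hc : Function.Surjective c := fun v =>
    ⟨fun i => (hP (v i)).choose, funext fun i => (hP (v i)).choose_spec⟩
  obtain ⟨t, ht⟩ := Module.FinitePresentation.fg_ker ((f.restrictScalars P) ∘ₗ c) (hf.comp hc)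
  refine Module.finitePresentation_of_surjective f hf ⟨t.image c, ?_⟩
  refine le_antisymm (Submodule.span_le.2 ?_) fun y hy => ?_
  · intro y hy
    obtain ⟨x, hx, rfl⟩ := Finset.mem_image.1 (Finset.mem_coe.1 hy)
    exact LinearMap.mem_ker.1 (ht ▸ Submodule.subset_span hx : x ∈ LinearMap.ker ((f.restrictScalars P) ∘ₗ c))
  · obtain ⟨x, rfl⟩ := hc y
    have hx : x ∈ LinearMap.ker ((f.restrictScalars P) ∘ₗ c) := hy
    rw [← ht] at hx
    have := Submodule.apply_mem_span_image_of_mem_span c hx
    rw [← Finset.coe_image] at this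
    exact Submodule.span_le_restrictScalars P S _ this

/-- Kernels of surjections between finitely presented modules, the target flat over `R`. -/
theorem ker_finitePresentation [Algebra.FinitePresentation R S] {F N : Type u} [AddCommGroup F]
    [Module S F] [Module.FinitePresentation S F] [AddCommGroup N] [Module S N] [Module R N]
    [IsScalarTower R S N] [Module.FinitePresentation S N] [Module.Flat R N] (f : F →ₗ[S] N)
    (hf : Function.Surjective f) : Module.FinitePresentation S ↥(LinearMap.ker f) := by
  obtain ⟨n, π, hπ, hker⟩ := Algebra.FinitePresentation.out (R := R) (A := S)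
  letI : Algebra (MvPolynomial (Fin n) R) S := π.toRingHom.toAlgebra
  letI : Module (MvPolynomial (Fin n) R) F := Module.compHom F π.toRingHom
  letI : Module (MvPolynomial (Fin n) R) N := Module.compHom N π.toRingHom
  haveI : IsScalarTower (MvPolynomial (Fin n) R) S F :=
    IsScalarTower.of_algebraMap_smul fun _ _ => rfl
  haveI : IsScalarTower (MvPolynomial (Fin n) R) S N :=
    IsScalarTower.of_algebraMap_smul fun _ _ => rfl
  haveI : IsScalarTower R (MvPolynomial (Fin n) R) N :=
    IsScalarTower.of_algebraMap_smul fun r x => by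
      show π (algebraMap R _ r) • x = r • x
      rw [π.commutes, algebraMap_smul]
  haveI : Module.FinitePresentation (MvPolynomial (Fin n) R) S :=
    Module.finitePresentation_of_surjective (Algebra.linearMap (MvPolynomial (Fin n) R) S) hπ hker
  haveI := Module.FinitePresentation.trans (MvPolynomial (Fin n) R) F S
  haveI := Module.FinitePresentation.trans (MvPolynomial (Fin n) R) N S
  haveI : Module.FinitePresentation (MvPolynomial (Fin n) R) ↥(LinearMap.ker f) :=
    ker_finitePresentation_poly (R := R) (f.restrictScalars (MvPolynomial (Fin n) R)) hf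
  exact finitePresentation_of_restrict (P := MvPolynomial (Fin n) R) hπ _

end Groth.Agent.Lib.FlatFPSyzygy.Basic
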